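import Groth.Agent.Deform.Luna.Centre
import Groth.Agent.Deform.MultUnipHom
import Groth.Agent.Deform.Borel.CentBase
import Groth.Agent.UnipCrit.Crit
import Groth.Agent.S8393
import Groth.Prelude.Def_AlphaP
import Groth.Prelude.Def_ConstGrp

/-!
# The centre of a reductive group contains no infinitesimal or constant unipotent subgroup
-/

set_option autoImplicit false
set_option linter.style.haveILetI false
set_option backward.isDefEq.respectTransparency false

universe u

open CategoryTheory CategoryTheory.Limits MonoidalCategory CartesianMonoidalCategory MonObj GrpObj AlgebraicGeometry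
open scoped TensorProduct
open WithConv

attribute [local instance] CategoryTheory.Hom.monoid CategoryTheory.Hom.group

namespace Groth.Agent.Deform.SmallGrp

open Agent.GrpSchLib.AffineHopf (sp spMap spMap_id spMap_injective spMap_eq_mapMulEquiv)

variable {k : Type u} [Field k]

theorem isUnipotent_of_counit {B : Type u} [CommRing B] [HopfAlgebra k B]
    (h : ∀ b : B, b = algebraMap k B (Coalgebra.counit (R := k) b)) : HopfRep.IsUnipotent k B := by
  intro V _ _ cV _ hnt
  obtain ⟨v, hv⟩ := exists_ne (0 : V)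
  refine (Submodule.ne_bot_iff _).mpr ⟨v, ?_, hv⟩
  show cV.coact v = v ⊗ₜ[k] (1 : B)
  let c : B →ₗ[k] k := Coalgebra.counit
  have key : ∀ z : V ⊗[k] B, z = LinearMap.lTensor V (Algebra.linearMap k B) (LinearMap.lTensor V c z) := fun z => by
    induction z using TensorProduct.induction_on with
    | zero => simp
    | add a b ha hb => rw [map_add, map_add, ← ha, ← hb]
    | tmul a b => simp only [LinearMap.lTensor_tmul, Algebra.linearMap_apply, c, ← h b]
  rw [key (cV.coact v), show LinearMap.lTensor V c (cV.coact v) = v ⊗ₜ[k] (1 : k) from LinearMap.congr_fun cV.counit_comp v,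
    LinearMap.lTensor_tmul]
  simp

set_option maxHeartbeats 1000000 in
/-- A group generated by one primitive coordinate is not a subgroup of the centre of a reductive group. -/
theorem not_mono_centre_of_primitive {G Z : Over (Spec (CommRingCat.of k))} [GrpObj G] [GrpObj Z]
    (hG : Red.IsReductive G) (z : Z ⟶ G) (hz : Red.IsCentre z) {A : Type u} [CommRing A] [HopfAlgebra k A]
    [Algebra.FiniteType k A] (x : A) (hx : Coalgebra.comul (R := k) x = x ⊗ₜ[k] (1 : A) + (1 : A) ⊗ₜ[k] x)
    (hgen : ∀ b : A, b - algebraMap k A (Coalgebra.counit (R := k) b) ∈ Ideal.span {x}) (hx0 : x ≠ 0)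
    (φ : sp k A ⟶ Z) [IsMonHom φ] : ¬ Mono φ.left := by
  intro hmono
  obtain ⟨h0, -, hHopf⟩ := UnipCrit.isHopfIdeal_span_primitive hx
  haveI := hHopf
  have hU : HopfRep.IsUnipotent k A := by
    refine UnipCrit.isUnipotent_of_primitive hx (isUnipotent_of_counit fun b => ?_)
    obtain ⟨a, rfl⟩ := Ideal.Quotient.mk_surjective b
    exact (Ideal.Quotient.eq (I := Ideal.span {x})).mpr (hgen a)
  obtain ⟨hGa, hGs, -⟩ := id hG
  haveI := hGa; haveI := hGs
  haveI := hz.1; haveI := hz.2.1
  haveI : IsAffine G.left := isAffine_of_isAffineHom G.hom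
  haveI : IsClosedImmersion z.left := by
    obtain ⟨T, iT, j, hjm, hjmo, hjc, -, hj⟩ := S8393.exists_centre G
    letI := iT
    have hj' : Red.IsCentralizerOf (𝟙 G) j := ⟨hjm, hjmo, fun X g => by
      rw [hj X g]
      exact ⟨fun h X' a' v => by simpa using h X' a' v, fun h X' a' v => by simpa using h X' a' v⟩⟩
    obtain ⟨e, he⟩ := Borel.exists_iso_centralizer (i := 𝟙 G) hz hj'
    haveI := hjc
    haveI : IsIso e.hom.left := (Over.forget _).map_isIso e.hom
    rw [← he, Over.comp_left]
    infer_instance
  haveI : LocallyOfFiniteType Z.hom := by rw [← Over.w z]; infer_instance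
  haveI : QuasiCompact Z.hom := by rw [← Over.w z]; infer_instance
  haveI : Mono φ := (Over.forget _).mono_of_mono_map hmono
  haveI : LocallyOfFiniteType (sp k A).hom :=
    (HasRingHomProperty.Spec_iff (P := @LocallyOfFiniteType)).mpr (RingHom.finiteType_algebraMap.mpr ‹_›)
  haveI : IsAffineHom (sp k A).hom := isAffineHom_of_isAffine _
  haveI : IsClosedImmersion φ.left := Borel.isClosedImmersion_of_mono φ
  haveI := Luna.flat_to_field (sp k A).hom
  have hA : SGA3x.IsMultTypeFT (sp k A) :=
    MultSubScheme.isMultTypeFT_of_closed (Luna.centre_multType hG z hz) φ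
  let N : Over.pullback (𝟙 (Spec (CommRingCat.of k))) ≅ 𝟭 _ := Over.pullbackId
  let v : sp k A ⟶ Red.bc (𝟙 _) (sp k A) := N.inv.app (sp k A)
  haveI : IsMonHom v := by
    have h := ((Functor.mapGrpNatIso N ≪≫ Functor.mapGrpIdIso).inv.app (Grp.mk (sp k A))).hom.isMonHom_hom
    have e : ((Functor.mapGrpNatIso N ≪≫ Functor.mapGrpIdIso).inv.app (Grp.mk (sp k A))).hom.hom = v :=
      Category.id_comp _
    exact e ▸ h
  have h1 := MultUnipHom.eq_one_of_multType hU (𝟙 _) hA v
  have hid : 𝟙 (sp k A) = 1 := by
    haveI : IsIso v := inferInstanceAs (IsIso (N.inv.app (sp k A)))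
    rw [← cancel_mono v, Category.id_comp]
    exact h1.trans (MonObj.one_comp v).symm
  have he : AlgHom.id k A = (1 : WithConv (A →ₐ[k] A)).ofConv := spMap_injective (by
    rw [spMap_id, hid, spMap_eq_mapMulEquiv, toConv_ofConv, map_one])
  refine hx0 ?_
  have h2 := DFunLike.congr_fun he x
  simpa [h0] using h2

/-- The coordinate of the constant group of order `p`. -/
theorem exists_coord_zmod (p : ℕ) [Fact p.Prime] [CharP k p] :
    ∃ x : ConstGrp.F k (Multiplicative (ZMod p)),
      Coalgebra.comul (R := k) x = x ⊗ₜ[k] 1 + 1 ⊗ₜ[k] x ∧ x ≠ 0 ∧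
      ∀ b, b - algebraMap k _ (Coalgebra.counit (R := k) b) ∈ Ideal.span {x} := by
  classical
  let c : ZMod p →+* k := ZMod.castHom dvd_rfl k
  let M := Multiplicative (ZMod p)
  let x : ConstGrp.F k M := fun g => c (Multiplicative.toAdd g)
  have hx : ∀ g, x g = c (Multiplicative.toAdd g) := fun g => rfl
  refine ⟨x, ?_, fun h => ?_, fun b => ?_⟩
  · rw [ConstGrp.comul_eq_sum]
    have e1 : x ⊗ₜ[k] (1 : ConstGrp.F k M) + 1 ⊗ₜ[k] x =
        ∑ a : M, ∑ b : M, (x a + x b) • (ConstGrp.e k a ⊗ₜ[k] ConstGrp.e k b) := by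
      conv_lhs => rw [ConstGrp.eq_sum_smul_e x, ← ConstGrp.sum_e (R := k) (G := M)]
      simp only [TensorProduct.sum_tmul, TensorProduct.tmul_sum, add_smul, Finset.sum_add_distrib,
        ← TensorProduct.smul_tmul', TensorProduct.tmul_smul, Finset.smul_sum]
      congr 1 <;> exact Finset.sum_comm
    rw [e1]
    exact Finset.sum_congr rfl fun a _ => Finset.sum_congr rfl fun b _ => by
      rw [hx, hx, hx, toAdd_mul, map_add]
  · have h2 := congrFun h (Multiplicative.ofAdd 1)
    exact one_ne_zero ((map_one c).symm.trans h2)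
  · let q : ConstGrp.F k M := fun g => (b g - b 1) / x g
    refine Ideal.mem_span_singleton.mpr ⟨q, funext fun g => ?_⟩
    show b g - b 1 = x g * ((b g - b 1) / x g)
    by_cases hg : g = 1
    · subst hg; simp
    · have hne : x g ≠ 0 := fun h0 => hg (by
        have := c.injective (h0.trans (map_zero c).symm)
        exact Multiplicative.toAdd.injective this)
      field_simp

end Groth.Agent.Deform.SmallGrp
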