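import Groth.Agent.Deform.Borel.MaxUnip
import Groth.Agent.Deform.Borel.CentBase
import Groth.Agent.Deform.Luna.Centre
import Groth.Agent.Deform.Luna.MaxTorusFactor

/-!
# The centre of a reductive group meets no connected unipotent subgroup
-/

set_option autoImplicit false
set_option linter.style.haveILetI false
set_option backward.isDefEq.respectTransparency false

universe u

open CategoryTheory CategoryTheory.Limits MonoidalCategory CartesianMonoidalCategory MonObj GrpObj AlgebraicGeometry

attribute [local instance] CategoryTheory.Hom.monoid CategoryTheory.Hom.group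

namespace Groth.Agent.Deform.SmallGrp

open Chev (Pt)
open Borel (conj)

variable {k : Type u} [Field k]

set_option maxHeartbeats 1000000 in
/-- Over an algebraically closed field. -/
theorem eq_one_of_central_over [IsAlgClosed k] {G Z U : Over (Spec (CommRingCat.of k))} [GrpObj G] [GrpObj Z]
    [GrpObj U] (hG : Red.IsReductiveOver k G) (z : Z ⟶ G) (hz : Red.IsCentre z) [IsAffine U.left] [Smooth U.hom]
    [ConnectedSpace U.left] (hU : Red.HasNoSubtorus k U) (u : U ⟶ G) [IsMonHom u] {X : Over (Spec (CommRingCat.of k))}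
    (a : X ⟶ Z) (b : X ⟶ U) (hab : a ≫ z = b ≫ u) : b ≫ u = 1 := by
  obtain ⟨hGa, hGs, hGc, -⟩ := id hG
  haveI := hGa; haveI := hGs; haveI := hGc
  haveI := hz.1
  obtain ⟨H, iH', iH, hH, -, huniv⟩ := Borel.exists_borel G
  obtain ⟨hm, hc, hs, hcn, hsol, -⟩ := hH
  haveI := hm; haveI := hc; haveI := hs; haveI := hcn
  haveI : IsAffine H.left := isAffine_of_isAffineHom iH.left
  haveI : Group.IsSolvable (Pt H) := Borel.isSolvable_pts_of_grp hsol
  haveI := Borel.isNilpotent_pts_of_noSubtorus U hU
  haveI : Group.IsSolvable (Pt U) := inferInstance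
  obtain ⟨g, f, hfm, hf⟩ := huniv U u
  haveI := hfm
  obtain ⟨T, gT, i, hu, π, ⟨hπi, -⟩, ρ, hρ, hρπ⟩ := Borel.exists_levi_hom H
  obtain ⟨him, hic, hT, -⟩ := id hu
  haveI := him; haveI := hic; haveI := hρ
  obtain ⟨hTa, hTl, hTs, hTc⟩ := Deform.TorusBasic.props hT
  haveI := hTa; haveI := hTl; haveI := hTs; haveI := hTc
  haveI : IsAffineHom T.hom := isAffineHom_of_isAffine _
  haveI : IsSeparated T.hom := inferInstance
  have hiρ : i ≫ ρ = 𝟙 T := Borel.comp_inj_pt _ _ fun w => by
    rw [← Category.assoc, hρπ, hπi, Category.comp_id]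
  -- the torus is maximal in `G`
  have huG : Borel.IsUnivTorus (i ≫ iH) := Borel.univTorus_of_universal iH i hu fun T' _ f' _ _ hT' => by
    obtain ⟨hTa', hTl', hTs', hTc'⟩ := Deform.TorusBasic.props hT'
    haveI := hTa'; haveI := hTl'; haveI := hTs'; haveI := hTc'; haveI := Borel.isSolvable_pts_of_torus hT'
    exact huniv T' f'
  haveI : IsAffineHom G.hom := isAffineHom_of_isAffine _
  haveI : IsSeparated G.hom := inferInstance
  haveI : Mono iH := (Over.forget _).mono_of_mono_map (inferInstanceAs (Mono iH.left))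
  haveI : Mono i := (Over.forget _).mono_of_mono_map (inferInstanceAs (Mono i.left))
  have hmax : AGF.IsMaxTorus (i ≫ iH) :=
    ⟨inferInstance, inferInstance, hT, fun T' _ j _ _ v h1 h2 => huG.maximal T' j v h1 h2⟩
  have hzc : ∀ {Y : Over (Spec (CommRingCat.of k))} (x : Y ⟶ Z) (h : Y ⟶ G), (x ≫ z) * h = h * (x ≫ z) := by
    intro Y x h
    have := (hz.2.2 Y (x ≫ z)).mp ⟨x, rfl⟩ Y (𝟙 Y) h
    simpa only [Category.id_comp, Category.comp_id] using this
  obtain ⟨t, ht⟩ := ((Luna.isCentralizerOf_self hG hmax).2.2 Z z).mpr fun Y y h => hzc y (h ≫ i ≫ iH)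
  -- compare in `H`
  have hb : (b ≫ f) ≫ iH = a ≫ z := by
    rw [Category.assoc, hf, ← Borel.comp_conj, ← Category.assoc, ← hab, Borel.comp_conj]
    show (toUnit X ≫ g) * (a ≫ z) * (toUnit X ≫ g)⁻¹ = a ≫ z
    rw [← hzc, mul_inv_cancel_right]
  have hbH : b ≫ f = (a ≫ t) ≫ i := by
    rw [← cancel_mono iH, hb, Category.assoc, Category.assoc, ht]
  have hfρ : f ≫ ρ = 1 := Borel.comp_inj_pt _ _ fun w => by
    rw [Borel.hom_torus_trivial hU hT (f ≫ ρ) w, MonObj.comp_one]
  have hat : a ≫ t = 1 := by
    have h1 := congrArg (fun m => m ≫ ρ) hbH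
    simp only [Category.assoc, hfρ, hiρ, Category.comp_id, MonObj.comp_one] at h1
    exact h1.symm
  rw [← hab, ← ht, ← Category.assoc, hat, MonObj.one_comp]

set_option maxHeartbeats 1000000 in
/-- **The centre of a reductive group meets connected unipotent subgroups trivially.** -/
theorem eq_one_of_central {G Z U : Over (Spec (CommRingCat.of k))} [GrpObj G] [GrpObj Z] [GrpObj U]
    (hG : Red.IsReductive G) (z : Z ⟶ G) (hz : Red.IsCentre z) [IsAffine U.left] [Smooth U.hom]
    [ConnectedSpace U.left]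
    (hU : ∀ s : ↥(Spec (CommRingCat.of k)),
      Red.HasNoSubtorus (AlgebraicClosure ((Spec (CommRingCat.of k)).residueField s)) (Red.geomFibre s U))
    (u : U ⟶ G) [IsMonHom u] {X : Over (Spec (CommRingCat.of k))} (a : X ⟶ Z) (b : X ⟶ U)
    (hab : a ≫ z = b ≫ u) : b ≫ u = 1 := by
  let s : ↥(Spec (CommRingCat.of k)) := IsLocalRing.closedPoint k
  let y := Red.geomPt s
  let F := Over.pullback y
  haveI : IsAffineHom U.hom := isAffineHom_of_isAffine _
  haveI : IsAffineHom (pullback.snd U.hom y) := MorphismProperty.pullback_snd (P := @IsAffineHom) U.hom y ‹_›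
  haveI : IsAffine (Red.bc y U).left := isAffine_of_isAffineHom (pullback.snd U.hom y)
  haveI : Smooth (Red.bc y U).hom := MorphismProperty.pullback_snd (P := @Smooth) U.hom y ‹_›
  haveI : ConnectedSpace (Red.bc y U).left := Luna.connectedSpace_geom (fun p => by
    haveI : Subsingleton ↥(Spec (CommRingCat.of k)) := inferInstance
    rw [show U.hom.base ⁻¹' {p} = Set.univ from Set.eq_univ_of_forall fun x => Subsingleton.elim _ _]
    exact isConnected_univ) s
  have hzK := Borel.isCentralizerOf_bc y hz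
  rw [CategoryTheory.Functor.map_id] at hzK
  haveI : IsMonHom (F.map u) := inferInstanceAs (IsMonHom ((Over.pullback y).map u))
  apply Borel.bc_map_injective (y := y)
  rw [Functor.map_comp]
  rw [eq_one_of_central_over (hG.2.2 s) (F.map z) hzK (hU s) (F.map u) (F.map a) (F.map b)
    (by rw [← F.map_comp, ← F.map_comp, hab])]
  exact (Functor.map_one F).symm

end Groth.Agent.Deform.SmallGrp
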