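import Groth.Agent.GrpLimLib.Basic
import Groth.Agent.GrpSchLib.MonoSubgroup
import Mathlib.AlgebraicGeometry.Noetherian

/-!
# Spreading out closed subgroups of the generic fibre of an affine group scheme
-/

open CategoryTheory CategoryTheory.Limits MonoidalCategory CartesianMonoidalCategory MonObj GrpObj AlgebraicGeometry
open TensorProduct

set_option maxHeartbeats 1000000

universe u

namespace Groth.Agent.Deform.SmallGrp.Spread

variable {R : CommRingCat.{u}}

/-- The generic point. -/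
noncomputable abbrev eta (R : CommRingCat.{u}) (K : Type u) [Field K] [Algebra R K] :
    Spec (CommRingCat.of K) ⟶ Spec R :=
  Spec.map (CommRingCat.ofHom (algebraMap R K))

variable (K : Type u) [Field K] [Algebra R K] [IsFractionRing R K]

/-- Global functions on the generic fibre of an affine scheme. -/
theorem generic_fibre {T : Scheme.{u}} [IsAffine T] (t : T ⟶ Spec R) :
    (∀ b, (pullback.fst t (eta R K)).appTop b = 0 →
      ∃ d : R, d ∈ nonZeroDivisors R ∧ t.appTop ((Scheme.ΓSpecIso R).inv d) * b = 0) ∧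
    (∀ x, ∃ v b, IsUnit v ∧ v * x = (pullback.fst t (eta R K)).appTop b) := by
  let ψ : R →+* Γ(T, ⊤) := ((Scheme.ΓSpecIso R).inv ≫ t.appTop).hom
  letI : Algebra R Γ(T, ⊤) := ψ.toAlgebra
  have ht : t = T.isoSpec.hom ≫ Spec.map (CommRingCat.ofHom (algebraMap R Γ(T, ⊤))) := by
    apply ext_to_Spec
    show _ = (Scheme.ΓSpecIso R).inv ≫ (T.isoSpec.hom ≫ Spec.map (CommRingCat.ofHom ψ)).appTop
    rw [Scheme.Hom.comp_appTop, ← Category.assoc, ← Scheme.ΓSpecIso_inv_naturality, Category.assoc]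
    simp [ψ, Scheme.isoSpec_hom, Scheme.toSpecΓ_appTop]
  have h1 : IsPullback (pullback.fst t (eta R K) ≫ T.isoSpec.hom) (pullback.snd t (eta R K))
      (Spec.map (CommRingCat.ofHom (algebraMap R Γ(T, ⊤)))) (eta R K) := by
    refine (IsPullback.of_hasPullback t (eta R K)).of_iso (Iso.refl _) T.isoSpec (Iso.refl _) (Iso.refl _) ?_ ?_ ?_ ?_
    · simp
    · simp
    · simp only [Iso.refl_hom, Category.comp_id]; exact ht
    · simp
  let e := h1.flip.isoPullback ≪≫ pullbackSpecIso R K Γ(T, ⊤)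
  have he : e.hom ≫ Spec.map (CommRingCat.ofHom
      (Algebra.TensorProduct.includeRight (R := R) (A := K) (B := Γ(T, ⊤))).toRingHom) =
      pullback.fst t (eta R K) ≫ T.isoSpec.hom := by
    simp only [e, Iso.trans_hom, Category.assoc]
    refine (congrArg (h1.flip.isoPullback.hom ≫ ·) (pullbackSpecIso_hom_snd R K Γ(T, ⊤))).trans ?_
    exact h1.flip.isoPullback_hom_snd
  let θ : CommRingCat.of (K ⊗[R] Γ(T, ⊤)) ⟶ Γ(pullback t (eta R K), ⊤) :=
    (Scheme.ΓSpecIso (CommRingCat.of (K ⊗[R] Γ(T, ⊤)))).inv ≫ e.hom.appTop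
  have hθ : IsIso θ := inferInstanceAs (IsIso (_ ≫ Scheme.Γ.map e.hom.op))
  have hθb : ∀ b, (pullback.fst t (eta R K)).appTop b = θ ((1 : K) ⊗ₜ[R] b) := by
    intro b
    have := congrArg (fun φ => (Scheme.Hom.appTop φ) ((Scheme.ΓSpecIso (CommRingCat.of Γ(T, ⊤))).inv b)) he
    simp only [Scheme.Hom.comp_appTop, CommRingCat.comp_apply] at this
    have h2 : T.isoSpec.hom.appTop ((Scheme.ΓSpecIso (CommRingCat.of Γ(T, ⊤))).inv b) = b := by
      rw [Scheme.isoSpec_hom, Scheme.toSpecΓ_appTop]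
      exact (Scheme.ΓSpecIso Γ(T, ⊤)).inv_hom_id_apply b
    have h3 := congrArg (fun φ => (ConcreteCategory.hom φ) b)
      (Scheme.ΓSpecIso_inv_naturality (CommRingCat.ofHom
        (Algebra.TensorProduct.includeRight (R := R) (A := K) (B := Γ(T, ⊤))).toRingHom))
    rw [h2] at this
    rw [← this]
    exact congrArg e.hom.appTop h3.symm
  have hinj : Function.Injective θ := (asIso θ).commRingCatIsoToRingEquiv.injective
  have hsurj : Function.Surjective θ := (asIso θ).commRingCatIsoToRingEquiv.surjective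
  haveI := (isLocalizedModule_iff_isBaseChange (nonZeroDivisors R) K
    (TensorProduct.mk R K Γ(T, ⊤) 1)).mpr (TensorProduct.isBaseChange R Γ(T, ⊤) K)
  constructor
  · intro b hb
    rw [hθb] at hb
    have hb' : TensorProduct.mk R K Γ(T, ⊤) 1 b = 0 := hinj (hb.trans (map_zero θ.hom).symm)
    obtain ⟨⟨d, hd⟩, h⟩ := (IsLocalizedModule.eq_zero_iff (nonZeroDivisors R) _).1 hb'
    refine ⟨d, hd, ?_⟩
    rw [Submonoid.smul_def, Algebra.smul_def] at h
    exact h
  · intro x
    obtain ⟨z, rfl⟩ := hsurj x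
    obtain ⟨⟨b, ⟨d, hd⟩⟩, h⟩ := IsLocalizedModule.surj (nonZeroDivisors R)
      (TensorProduct.mk R K Γ(T, ⊤) 1) z
    refine ⟨θ (algebraMap R K d ⊗ₜ 1), b, ?_, ?_⟩
    · exact ((IsLocalization.map_units K (⟨d, hd⟩ : nonZeroDivisors R)).map
        (Algebra.TensorProduct.includeLeft : K →ₐ[K] K ⊗[R] Γ(T, ⊤))).map θ.hom
    · rw [hθb]
      refine (map_mul θ.hom _ _).symm.trans (congrArg θ ?_)
      rw [Submonoid.smul_def] at h
      rw [← show d • z = algebraMap R K d ⊗ₜ[R] (1 : Γ(T, ⊤)) * z by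
        rw [Algebra.smul_def]; rfl]
      exact h

/-- A function vanishing on the generic fibre vanishes over a neighbourhood of it. -/
theorem vanish_nhd [IsDomain R] {T : Scheme.{u}} [IsAffine T] (t : T ⟶ Spec R) (b : Γ(T, ⊤))
    (hb : (pullback.fst t (eta R K)).appTop b = 0) :
    ∃ d : R, d ≠ 0 ∧ ∀ {V : Scheme.{u}} (io : V ⟶ Spec R),
      IsUnit (io.appTop ((Scheme.ΓSpecIso R).inv d)) → (pullback.fst t io).appTop b = 0 := by
  obtain ⟨d, hd, h⟩ := (generic_fibre K t).1 b hb
  refine ⟨d, nonZeroDivisors.ne_zero hd, fun {V} io hu => ?_⟩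
  have h' := congrArg (pullback.fst t io).appTop h
  rw [map_mul, map_zero] at h'
  refine (IsUnit.mul_right_eq_zero ?_).1 h'
  have := congrArg (fun φ => (Scheme.Hom.appTop φ) ((Scheme.ΓSpecIso R).inv d))
    (pullback.condition (f := t) (g := io))
  simp only [Scheme.Hom.comp_appTop, CommRingCat.comp_apply] at this
  rw [this]
  exact hu.map (pullback.snd t io).appTop.hom

/-- A morphism to an affine scheme factors through the closed subscheme cut out by `J` as soon as
its functions kill `J`. -/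
theorem exists_factor {T G Z : Scheme.{u}} [IsAffine G] (z : Z ⟶ G) [IsClosedImmersion z] (f : T ⟶ G)
    (h : ∀ a, z.appTop a = 0 → f.appTop a = 0) : ∃ w : T ⟶ Z, w ≫ z = f := by
  obtain ⟨haff, hsurj⟩ := IsClosedImmersion.isAffine_surjective_of_isAffine z
  haveI := haff
  let φ : Γ(Z, ⊤) ⟶ Γ(T, ⊤) := CommRingCat.ofHom
    (RingHom.liftOfSurjective z.appTop.hom hsurj ⟨f.appTop.hom, fun a ha => h a ha⟩)
  refine ⟨T.toSpecΓ ≫ Spec.map φ ≫ Z.isoSpec.inv, ?_⟩
  have h1 : z.appTop ≫ φ = f.appTop := by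
    ext a
    exact RingHom.liftOfRightInverse_comp_apply _ (Function.surjInv hsurj) (Function.rightInverse_surjInv hsurj)
      ⟨f.appTop.hom, fun a ha => h a ha⟩ a
  rw [Category.assoc, Category.assoc, ← Scheme.isoSpec_inv_naturality, ← Spec.map_comp_assoc, h1,
    ← Scheme.toSpecΓ_naturality_assoc, ← Scheme.isoSpec_hom, Iso.hom_inv_id, Category.comp_id]

theorem isNoetherian_fibre {G : Over (Spec R)} [IsAffineHom G.hom] [LocallyOfFiniteType G.hom] :
    IsNoetherianRing Γ(pullback G.hom (eta R K), ⊤) := by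
  haveI : IsLocallyNoetherian (pullback G.hom (eta R K)) :=
    LocallyOfFiniteType.isLocallyNoetherian (pullback.snd G.hom (eta R K))
  haveI : IsAffine (pullback G.hom (eta R K)) := isAffine_of_isAffineHom (pullback.snd G.hom (eta R K))
  exact IsLocallyNoetherian.component_noetherian ⟨⊤, isAffineOpen_top _⟩

open scoped Classical in
/-- **Spreading out of a closed subgroup of the generic fibre.** -/
theorem spread [IsDomain R] (G : Over (Spec R)) [GrpObj G] [IsAffineHom G.hom] [LocallyOfFiniteType G.hom]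
    (H : Over (Spec (CommRingCat.of K))) [GrpObj H] (i : H ⟶ Red.bc (eta R K) G) [IsMonHom i]
    [IsClosedImmersion i.left] :
    ∃ d : R, d ≠ 0 ∧ ∀ {V : Scheme.{u}} (io : V ⟶ Spec R) (ηV : Spec (CommRingCat.of K) ⟶ V),
      ηV ≫ io = eta R K → IsUnit (io.appTop ((Scheme.ΓSpecIso R).inv d)) →
      ∃ (HV : Over V) (_ : GrpObj HV) (j : HV ⟶ Red.bc io G) (φ : H.left ⟶ HV.left),
        IsMonHom j ∧ IsClosedImmersion j.left ∧ IsPullback φ H.hom HV.hom ηV ∧
        φ ≫ j.left ≫ pullback.fst G.hom io = i.left ≫ pullback.fst G.hom (eta R K) := by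
  haveI : IsAffine G.left := isAffine_of_isAffineHom G.hom
  haveI hGK : IsAffine (pullback G.hom (eta R K)) := isAffine_of_isAffineHom (pullback.snd G.hom (eta R K))
  haveI : IsClosedImmersion (i.left : H.left ⟶ pullback G.hom (eta R K)) := ‹_›
  haveI := isNoetherian_fibre K (G := G)
  let I : Ideal Γ(pullback G.hom (eta R K), ⊤) :=
    RingHom.ker (Scheme.Hom.appTop (i.left : H.left ⟶ pullback G.hom (eta R K))).hom
  obtain ⟨g, hg⟩ := (IsNoetherian.noetherian I : I.FG)
  choose v a hv ha using (generic_fibre K G.hom).2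
  let s : Finset Γ(G.left, ⊤) := g.image a
  let J : Ideal Γ(G.left, ⊤) := Ideal.span s
  let Z₀ := Spec (CommRingCat.of (Γ(G.left, ⊤) ⧸ J))
  let z₀ : Z₀ ⟶ G.left := Spec.map (CommRingCat.ofHom (Ideal.Quotient.mk J)) ≫ G.left.isoSpec.inv
  haveI : IsClosedImmersion (Spec.map (CommRingCat.ofHom (Ideal.Quotient.mk J))) :=
    IsClosedImmersion.spec_of_surjective _ Ideal.Quotient.mk_surjective
  haveI : IsClosedImmersion z₀ := by dsimp only [z₀]; infer_instance
  have hiso : G.left.isoSpec.inv.appTop = (Scheme.ΓSpecIso Γ(G.left, ⊤)).inv := by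
    have h := congrArg Scheme.Hom.appTop G.left.isoSpec.inv_hom_id
    rw [Scheme.Hom.comp_appTop, Scheme.isoSpec_hom, Scheme.toSpecΓ_appTop] at h
    exact (Iso.hom_comp_eq_id _).1 (h.trans rfl)
  have hz₀ : ∀ c, z₀.appTop c = (Scheme.ΓSpecIso (CommRingCat.of (Γ(G.left, ⊤) ⧸ J))).inv
      (Ideal.Quotient.mk J c) := by
    intro c
    have h := congrArg (fun φ => (ConcreteCategory.hom φ) c)
      (Scheme.ΓSpecIso_inv_naturality (CommRingCat.ofHom (Ideal.Quotient.mk J)))
    refine Eq.trans ?_ h.symm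
    simp only [z₀, Scheme.Hom.comp_appTop, CommRingCat.comp_apply]
    congr 1
    exact congrArg (fun φ => (ConcreteCategory.hom φ) c) hiso
  have hcrit : ∀ {T : Scheme.{u}} (f : T ⟶ G.left), (∀ c ∈ s, f.appTop c = 0) → ∃ w, w ≫ z₀ = f := by
    intro T f hf
    refine exists_factor z₀ f fun c hc => ?_
    have : c ∈ J := by
      rw [← Ideal.Quotient.eq_zero_iff_mem]
      have h := (hz₀ c).symm.trans hc
      exact (Scheme.ΓSpecIso (CommRingCat.of (Γ(G.left, ⊤) ⧸ J))).commRingCatIsoToRingEquiv.symm.injective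
        (h.trans (map_zero _).symm)
    exact (Ideal.span_le.2 (fun c hc => hf c hc) : J ≤ RingHom.ker f.appTop.hom) this
  have hzero : ∀ c ∈ s, z₀.appTop c = 0 := by
    intro c hc
    rw [hz₀, Ideal.Quotient.eq_zero_iff_mem.2 (Ideal.subset_span hc), map_zero]
  let Z : Over (Spec R) := Over.mk (z₀ ≫ G.hom)
  let z : Z ⟶ G := Over.homMk z₀ rfl
  haveI : IsClosedImmersion z.left := ‹IsClosedImmersion z₀›
  haveI : Mono z := (Over.forget _).mono_of_mono_map (inferInstanceAs (Mono z₀))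
  haveI hZa : IsAffineHom Z.hom := inferInstanceAs (IsAffineHom (z₀ ≫ G.hom))
  let F := Over.pullback (eta R K)
  haveI : Mono (F.map z) := inferInstance
  -- the generic fibre of `Z` is `H`
  have hig : ∀ x ∈ g, (i.left ≫ pullback.fst G.hom (eta R K)).appTop (a x) = 0 := by
    intro x hx
    rw [Scheme.Hom.comp_appTop, CommRingCat.comp_apply]
    show (Scheme.Hom.appTop (i.left : H.left ⟶ pullback G.hom (eta R K))).hom _ = 0
    rw [← ha x, map_mul, show (Scheme.Hom.appTop (i.left : H.left ⟶ pullback G.hom (eta R K))).hom x = 0 from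
      (hg ▸ Ideal.subset_span hx : x ∈ I), mul_zero]
  obtain ⟨w₁, hw₁⟩ := hcrit (i.left ≫ pullback.fst G.hom (eta R K)) fun c hc => by
    obtain ⟨x, hx, rfl⟩ := Finset.mem_image.1 hc
    exact hig x hx
  let a₁ : H ⟶ F.obj Z := Over.homMk (pullback.lift w₁ H.hom (by
    show w₁ ≫ z₀ ≫ G.hom = _
    rw [reassoc_of% hw₁, pullback.condition, ← Category.assoc]
    exact congrArg (· ≫ eta R K) (Over.w i))) (pullback.lift_snd _ _ _)
  have ha₁ : a₁ ≫ F.map z = i := by
    refine GrpLimLib.hom_ext₁ ?_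
    rw [Over.comp_left, Category.assoc]
    refine (congrArg (a₁.left ≫ ·) (GrpLimLib.map_left_fst z)).trans ?_
    rw [← Category.assoc, show a₁.left ≫ pullback.fst Z.hom (eta R K) = w₁ from pullback.lift_fst _ _ _]
    exact hw₁
  obtain ⟨a₂, ha₂⟩ := exists_factor (G := pullback G.hom (eta R K)) (i.left : H.left ⟶ pullback G.hom (eta R K))
    ((F.map z).left : (F.obj Z).left ⟶ pullback G.hom (eta R K)) fun c hc => by
    have hcI : c ∈ Ideal.span (g : Set Γ(pullback G.hom (eta R K), ⊤)) := by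
      rw [show Ideal.span (g : Set Γ(pullback G.hom (eta R K), ⊤)) = I from hg]; exact hc
    refine (Ideal.span_le.2 (fun x hx => ?_) : _ ≤ RingHom.ker
      (Scheme.Hom.appTop ((F.map z).left : (F.obj Z).left ⟶ pullback G.hom (eta R K))).hom) hcI
    refine ((hv x).map _).mul_right_eq_zero.1 ((map_mul _ _ _).symm.trans ?_)
    rw [ha x]
    refine (CommRingCat.comp_apply _ _ _).symm.trans ?_
    rw [← Scheme.Hom.comp_appTop, show (F.map z).left ≫ pullback.fst G.hom (eta R K) =
      pullback.fst Z.hom (eta R K) ≫ z₀ from GrpLimLib.map_left_fst z, Scheme.Hom.comp_appTop,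
      CommRingCat.comp_apply, hzero _ (Finset.mem_image_of_mem a hx), map_zero]
  let e : F.obj Z ⟶ H := Over.homMk a₂ (by
    rw [← Over.w i, ← Over.w (F.map z)]
    exact (Category.assoc _ _ _).symm.trans (congrArg (· ≫ (Red.bc (eta R K) G).hom) ha₂))
  have he : e ≫ i = F.map z := Over.OverMorphism.ext ha₂
  haveI : Mono i := (Over.forget _).mono_of_mono_map (inferInstanceAs (Mono i.left))
  have hae : a₁ ≫ e = 𝟙 H := by rw [← cancel_mono i, Category.assoc, he, ha₁, Category.id_comp]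
  have hea : e ≫ a₁ = 𝟙 _ := by rw [← cancel_mono (F.map z), Category.assoc, ha₁, he, Category.id_comp]
  -- morphisms into `Z` over a neighbourhood
  have key : ∀ (T : Over (Spec R)) (_ : IsAffineHom T.hom) (f : T ⟶ G) (h : F.obj T ⟶ H), h ≫ i = F.map f →
      ∃ d : R, d ≠ 0 ∧ ∀ {V : Scheme.{u}} (io : V ⟶ Spec R), IsUnit (io.appTop ((Scheme.ΓSpecIso R).inv d)) →
        ∃ w : (Over.pullback io).obj T ⟶ (Over.pullback io).obj Z,
          w ≫ (Over.pullback io).map z = (Over.pullback io).map f := by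
    intro T hT f h hh
    haveI : IsAffine T.left := isAffine_of_isAffineHom T.hom
    have hK : ∀ c ∈ s, (pullback.fst T.hom (eta R K)).appTop (f.left.appTop c) = 0 := by
      intro c hc
      obtain ⟨x, hx, rfl⟩ := Finset.mem_image.1 hc
      refine (CommRingCat.comp_apply _ _ _).symm.trans ?_
      rw [← Scheme.Hom.comp_appTop, show pullback.fst T.hom (eta R K) ≫ f.left =
        h.left ≫ i.left ≫ pullback.fst G.hom (eta R K) by
          rw [← Category.assoc, ← Over.comp_left, hh]; exact (GrpLimLib.map_left_fst f).symm]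
      rw [Scheme.Hom.comp_appTop, CommRingCat.comp_apply, hig x hx, map_zero]
    choose! d hd0 hd using fun c hc => vanish_nhd K T.hom (f.left.appTop c) (hK c hc)
    refine ⟨∏ c ∈ s, d c, Finset.prod_ne_zero_iff.2 hd0, fun {V} io hu => ?_⟩
    obtain ⟨w, hw⟩ := hcrit (pullback.fst T.hom io ≫ f.left) fun c hc => by
      rw [Scheme.Hom.comp_appTop, CommRingCat.comp_apply]
      refine hd c hc io (isUnit_of_dvd_unit ?_ hu)
      exact map_dvd io.appTop.hom (map_dvd (Scheme.ΓSpecIso R).inv.hom (Finset.dvd_prod_of_mem d hc))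
    refine ⟨Over.homMk (pullback.lift w (pullback.snd T.hom io) (by
      show w ≫ z₀ ≫ G.hom = _
      rw [reassoc_of% hw, Over.w f, pullback.condition])) (pullback.lift_snd _ _ _), ?_⟩
    refine GrpLimLib.hom_ext₁ ?_
    rw [Over.comp_left, Category.assoc]
    refine (congrArg (_ ≫ ·) (GrpLimLib.map_left_fst z)).trans ?_
    rw [← Category.assoc]
    refine ((congrArg (· ≫ z₀) (pullback.lift_fst _ _ _)).trans hw).trans (GrpLimLib.map_left_fst f).symm
  haveI : IsAffineHom (Z ⊗ Z).hom := by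
    show IsAffineHom (pullback.fst Z.hom Z.hom ≫ Z.hom)
    haveI : IsAffineHom (pullback.fst Z.hom Z.hom) := MorphismProperty.pullback_fst _ _ hZa
    infer_instance
  haveI : IsAffineHom (𝟙_ (Over (Spec R))).hom := inferInstanceAs (IsAffineHom (𝟙 _))
  obtain ⟨d₁, hd₁, k₁⟩ := key (Z ⊗ Z) inferInstance ((fst Z Z ≫ z) * (snd Z Z ≫ z))
    ((F.map (fst Z Z) ≫ e) * (F.map (snd Z Z) ≫ e)) (by
      rw [MonObj.mul_comp, Category.assoc, Category.assoc, he, ← F.map_comp, ← F.map_comp,
        Functor.map_mul])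
  obtain ⟨d₂, hd₂, k₂⟩ := key _ inferInstance (1 : 𝟙_ (Over (Spec R)) ⟶ G) 1 (by
      rw [MonObj.one_comp, Functor.map_one])
  obtain ⟨d₃, hd₃, k₃⟩ := key Z hZa z⁻¹ e⁻¹ (by
      rw [GrpObj.inv_comp, he, Functor.map_inv'])
  refine ⟨d₁ * d₂ * d₃, mul_ne_zero (mul_ne_zero hd₁ hd₂) hd₃, fun {V} io ηV hη hu => ?_⟩
  rw [map_mul, map_mul, map_mul, map_mul, IsUnit.mul_iff, IsUnit.mul_iff] at hu
  obtain ⟨m, hm⟩ := k₁ io hu.1.1
  obtain ⟨o, ho⟩ := k₂ io hu.1.2
  obtain ⟨n, hn⟩ := k₃ io hu.2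
  haveI : Mono ((Over.pullback io).map z) := inferInstance
  obtain ⟨str, hstr⟩ := GrpSchLib.exists_grpObj_of_mono ((Over.pullback io).map z)
    (Functor.LaxMonoidal.ε (Over.pullback io) ≫ o) (by
      rw [Category.assoc, ho]
      rfl)
    (Functor.LaxMonoidal.μ (Over.pullback io) Z Z ≫ m) (by
      rw [Category.assoc, hm, Functor.map_mul, MonObj.comp_mul, Functor.map_comp, Functor.map_comp,
        ← Category.assoc, ← Category.assoc, Functor.Monoidal.μ_fst, Functor.Monoidal.μ_snd])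
    n (by rw [hn, Functor.map_inv'])
  refine ⟨(Over.pullback io).obj Z, str, (Over.pullback io).map z,
    pullback.lift w₁ (H.hom ≫ ηV) (by
      show w₁ ≫ z₀ ≫ G.hom = _
      rw [reassoc_of% hw₁, pullback.condition, Category.assoc, hη, ← Category.assoc]
      exact congrArg (· ≫ eta R K) (Over.w i)), hstr, ?_, ?_, ?_⟩
  · exact MorphismProperty.baseChange_map (P := @IsClosedImmersion) io z ‹IsClosedImmersion z₀›
  · refine IsPullback.of_right ?_ (pullback.lift_snd _ _ _) (IsPullback.of_hasPullback Z.hom io)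
    rw [pullback.lift_fst, hη]
    have hP : IsPullback (pullback.fst Z.hom (eta R K)) (pullback.snd Z.hom (eta R K)) Z.hom (eta R K) :=
      IsPullback.of_hasPullback _ _
    let eI : H ≅ F.obj Z := ⟨a₁, e, hae, hea⟩
    refine hP.of_iso ((Over.forget _).mapIso eI).symm (Iso.refl _) (Iso.refl _) (Iso.refl _) ?_ ?_ (by simp) (by simp)
    · simp only [Iso.refl_hom, Category.comp_id]
      show _ = e.left ≫ w₁
      rw [← show a₁.left ≫ pullback.fst Z.hom (eta R K) = w₁ from pullback.lift_fst _ _ _,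
        ← Category.assoc, ← Over.comp_left, hea, Over.id_left, Category.id_comp]
    · simp only [Iso.refl_hom, Category.comp_id]
      exact (Over.w e).symm
  · refine (congrArg (_ ≫ ·) (GrpLimLib.map_left_fst z)).trans ?_
    rw [pullback.lift_fst_assoc]
    exact hw₁

end Groth.Agent.Deform.SmallGrp.Spread
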