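import Groth.Agent.Deform.SmallGrp.Spread
import Mathlib.AlgebraicGeometry.FunctionField

/-!
# Affine neighbourhoods of the generic point
-/

open CategoryTheory CategoryTheory.Limits MonoidalCategory CartesianMonoidalCategory MonObj GrpObj AlgebraicGeometry

universe u

namespace Groth.Agent.Deform.SmallGrp.Spread

variable {X : Scheme.{u}} [IsIntegral X]

theorem eta_fromSpec {U₀ : X.Opens} (hU : IsAffineOpen U₀) [Nonempty U₀] (h : genericPoint X ∈ U₀) :
    eta Γ(X, U₀) X.functionField ≫ hU.fromSpec = X.fromSpecStalk (genericPoint X) := by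
  refine Eq.trans ?_ (hU.fromSpecStalk_eq_fromSpecStalk h)
  have : CommRingCat.ofHom (algebraMap Γ(X, U₀) X.functionField) = X.presheaf.germ U₀ (genericPoint X) h :=
    CommRingCat.hom_ext rfl
  rw [eta, this]
  unfold IsAffineOpen.fromSpecStalk
  rfl

omit [IsIntegral X] in
/-- The principal open neighbourhood of the generic point. -/
theorem exists_open {R : CommRingCat.{u}} (u : Spec R ⟶ X) [IsOpenImmersion u] (K : Type u) [Field K]
    [Algebra R K] (d : R) (hd : algebraMap R K d ≠ 0) :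
    ∃ (U : X.Opens) (io : (U : Scheme.{u}) ⟶ Spec R) (ηU : Spec (CommRingCat.of K) ⟶ (U : Scheme.{u})),
      io ≫ u = U.ι ∧ ηU ≫ io = eta R K ∧ IsUnit (io.appTop ((Scheme.ΓSpecIso R).inv d)) := by
  let D : (Spec R).Opens := PrimeSpectrum.basicOpen d
  let U : X.Opens := u ''ᵁ D
  have h0 : Set.range (eta R K) ⊆ Set.range D.ι := by
    rw [Scheme.Opens.range_ι]
    rintro _ ⟨p, rfl⟩
    show d ∉ Ideal.comap (algebraMap R K) p.asIdeal
    intro hc
    exact p.2.ne_top (Ideal.eq_top_of_isUnit_mem _ hc (isUnit_iff_ne_zero.2 hd))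
  refine ⟨U, (u.isoImage D).inv ≫ D.ι, IsOpenImmersion.lift D.ι (eta R K) h0 ≫ (u.isoImage D).hom,
    ?_, ?_, ?_⟩
  · rw [Category.assoc, ← Scheme.Hom.isoImage_hom_ι, Iso.inv_hom_id_assoc]
  · rw [Category.assoc, Iso.hom_inv_id_assoc, IsOpenImmersion.lift_fac]
  · rw [Scheme.Hom.comp_appTop, CommRingCat.comp_apply]
    refine IsUnit.map _ ?_
    refine RingedSpace.isUnit_of_isUnit_germ _ ⊤ _ fun y _ => ?_
    refine (Scheme.mem_basicOpen (D : Scheme.{u}) (D.ι.appTop ((Scheme.ΓSpecIso R).inv d)) y trivial).1 ?_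
    rw [← Scheme.preimage_basicOpen_top, basicOpen_eq_of_affine]
    exact y.2

set_option maxHeartbeats 1000000 in
/-- **Spreading out**, over an affine open neighbourhood of the generic point. -/
theorem spread_open {X : Scheme.{u}} [IsIntegral X] {R : CommRingCat.{u}} [IsDomain R] (u : Spec R ⟶ X) [IsOpenImmersion u]
    (K : Type u) [Field K] [Algebra R K] [IsFractionRing R K] (fsm : Spec (CommRingCat.of K) ⟶ X)
    (e : eta R K ≫ u = fsm) (G : Over X) [GrpObj G] [IsAffineHom G.hom] [LocallyOfFiniteType G.hom]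
    (Hη : Over (Spec (CommRingCat.of K))) [GrpObj Hη] (i : Hη ⟶ Red.bc fsm G) [IsMonHom i]
    [IsClosedImmersion i.left] :
    ∃ (U : X.Opens) (ηU : Spec (CommRingCat.of K) ⟶ (U : Scheme.{u})) (HU : Over (U : Scheme.{u}))
      (_ : GrpObj HU) (j : HU ⟶ Red.bc U.ι G) (φ : Hη.left ⟶ HU.left),
      ηU ≫ U.ι = fsm ∧ IsMonHom j ∧ IsClosedImmersion j.left ∧
      IsPullback φ Hη.hom HU.hom ηU ∧
      φ ≫ j.left ≫ pullback.fst G.hom U.ι = i.left ≫ pullback.fst G.hom fsm := by
  haveI : IsAffineHom (Red.bc u G).hom := MorphismProperty.pullback_snd (P := @IsAffineHom) _ _ ‹_›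
  haveI : LocallyOfFiniteType (Red.bc u G).hom :=
    MorphismProperty.pullback_snd (P := @LocallyOfFiniteType) _ _ ‹_›
  haveI : IsClosedImmersion (i ≫ (GrpLimLib.cmp e G).inv).left := by
    rw [Over.comp_left]
    haveI : IsIso (GrpLimLib.cmp e G).inv.left :=
      inferInstanceAs (IsIso ((Over.forget _).mapIso (GrpLimLib.cmp e G)).inv)
    infer_instance
  obtain ⟨d, hd, h⟩ := spread K (Red.bc u G) Hη (i ≫ (GrpLimLib.cmp e G).inv)
  obtain ⟨U, io, ηU, hio, hηio, hunit⟩ := exists_open u K d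
    (fun h0 => hd ((IsFractionRing.injective R K) (h0.trans (map_zero _).symm)))
  obtain ⟨HV, str, j, φ, hj, hjc, hP, hφ⟩ := h io ηU hηio hunit
  haveI := hj
  haveI := hjc
  refine ⟨U, ηU, HV, str, j ≫ (GrpLimLib.cmp hio G).hom, φ, ?_, inferInstance, ?_, hP, ?_⟩
  · rw [← hio, reassoc_of% hηio]; exact e
  · rw [Over.comp_left]
    haveI : IsIso (GrpLimLib.cmp hio G).hom.left :=
      inferInstanceAs (IsIso ((Over.forget _).mapIso (GrpLimLib.cmp hio G)).hom)
    infer_instance
  · rw [Over.comp_left, Category.assoc, GrpLimLib.cmp_hom_fst hio G]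
    show φ ≫ j.left ≫ pullback.fst _ io ≫ pullback.fst G.hom u = _
    rw [reassoc_of% hφ, Over.comp_left, Category.assoc]
    exact congrArg (i.left ≫ ·) (GrpLimLib.cmp_inv_fst e G)

end Groth.Agent.Deform.SmallGrp.Spread
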