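import Groth.Agent.GrpSchLib.KernelGrp
import Groth.Agent.GrpSchLib.AntiAffineHom
import Mathlib.FieldTheory.IsAlgClosed.AlgebraicClosure
import Mathlib.LinearAlgebra.Dual.Lemmas
import Mathlib.Algebra.DualNumber
import Mathlib.AlgebraicGeometry.Morphisms.FiniteType

/-!
# Group schemes with one geometric point and no tangent vectors
-/

set_option autoImplicit false
set_option linter.style.haveILetI false

universe u

open CategoryTheory CategoryTheory.Limits MonoidalCategory CartesianMonoidalCategory AlgebraicGeometry

open scoped MonObj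

attribute [local instance] CategoryTheory.Hom.monoid CategoryTheory.Hom.group

namespace Groth.Agent.Deform.SmallGrp

/-- A finitely generated idempotent-nilpotent ideal vanishes, else there is a tangent vector. -/
theorem ker_eq_bot_of_no_derivation {k A : Type u} [Field k] [CommRing A] [IsNoetherianRing A] [Algebra k A]
    (e : A →ₐ[k] k) (hnil : ∀ a, e a = 0 → IsNilpotent a)
    (h : ∀ ψ : A →ₐ[k] DualNumber k, ∀ a, (ψ a).snd = 0) : RingHom.ker e = ⊥ := by
  let m : Ideal A := RingHom.ker e
  have hm2 : m * m = m := by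
    refine le_antisymm Ideal.mul_le_left fun a ha => ?_
    by_contra hne
    let p : Submodule k A := (m * m).restrictScalars k ⊔ Submodule.span k {1}
    have hap : a ∉ p := by
      intro hap
      obtain ⟨q, hq, c, hc, hqc⟩ := Submodule.mem_sup.mp hap
      obtain ⟨r, rfl⟩ := Submodule.mem_span_singleton.mp hc
      have hq0 : e q = 0 := Ideal.mul_le_left (show q ∈ m * m from hq)
      have := congrArg e hqc
      rw [map_add, hq0, map_smul, map_one, smul_eq_mul, mul_one, zero_add, (show e a = 0 from ha)] at this
      subst this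
      rw [zero_smul, add_zero] at hqc
      exact hne (hqc ▸ hq)
    obtain ⟨φ, hφa, hφp⟩ := Submodule.exists_dual_map_eq_bot_of_notMem hap inferInstance
    have hzero : ∀ x ∈ p, φ x = 0 := fun x hx => by
      have : φ x ∈ p.map φ := ⟨x, hx, rfl⟩
      rw [hφp] at this
      simpa using this
    have h1 : φ 1 = 0 := hzero 1 (Submodule.mem_sup_right (Submodule.mem_span_singleton_self 1))
    have hmul : ∀ x y : A, φ (x * y) = e x * φ y + φ x * e y := by
      intro x y
      have hz : φ ((x - algebraMap k A (e x)) * (y - algebraMap k A (e y))) = 0 :=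
        hzero _ (Submodule.mem_sup_left (Ideal.mul_mem_mul (show e _ = 0 by simp) (show e _ = 0 by simp)))
      have hrw : (x - algebraMap k A (e x)) * (y - algebraMap k A (e y)) =
          x * y - e x • y - e y • x + (e x * e y) • (1 : A) := by
        rw [Algebra.smul_def, Algebra.smul_def, Algebra.smul_def, map_mul]
        ring
      rw [hrw, map_add, map_sub, map_sub, map_smul, map_smul, map_smul, h1, smul_eq_mul, smul_eq_mul, smul_zero,
        add_zero] at hz
      linear_combination hz
    let ψ : A →ₐ[k] DualNumber k :=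
      { toFun := fun x => TrivSqZeroExt.inl (e x) + TrivSqZeroExt.inr (φ x)
        map_one' := by apply TrivSqZeroExt.ext <;> simp [h1]
        map_mul' := fun x y => by apply TrivSqZeroExt.ext <;> simp [hmul, mul_comm]
        map_zero' := by apply TrivSqZeroExt.ext <;> simp
        map_add' := fun x y => by apply TrivSqZeroExt.ext <;> simp
        commutes' := fun r => by
          apply TrivSqZeroExt.ext
          · simp [TrivSqZeroExt.algebraMap_eq_inl]
          · simp [TrivSqZeroExt.algebraMap_eq_inl, Algebra.algebraMap_eq_smul_one, h1] }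
    exact hφa (by simpa [ψ] using h ψ a)
  obtain ⟨b, hb, hmb⟩ := (Ideal.isIdempotentElem_iff_of_fg m m.fg_of_isNoetherianRing).mp hm2
  rw [show RingHom.ker e = m from rfl, hmb, Ideal.submodule_span_eq, Ideal.span_singleton_eq_bot]
  obtain ⟨n, hn⟩ := hnil b (show e b = 0 from (show b ∈ m by rw [hmb]; exact Ideal.mem_span_singleton_self b))
  rcases Nat.eq_zero_or_pos n with rfl | hpos
  · rw [pow_zero] at hn
    rw [← one_mul b, hn, zero_mul]
  · rwa [hb.pow_eq hpos.ne'] at hn

variable {k : Type u} [Field k]

/-- A homomorphism injective on geometric points and on tangent vectors at the unit is a monomorphism. -/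
theorem mono_of_injective {G G' : Over (Spec (CommRingCat.of k))} [GrpObj G] [GrpObj G']
    [LocallyOfFiniteType G.hom] (f : G ⟶ G') [IsMonHom f]
    (hgeom : ∀ (K : Type u) [Field K] [IsAlgClosed K] [Algebra k K],
      Function.Injective (fun g : (Over.mk (Spec.map (CommRingCat.ofHom (algebraMap k K)))) ⟶ G => g ≫ f))
    (htan : ∀ g : (Over.mk (Spec.map (CommRingCat.ofHom (algebraMap k (DualNumber k))))) ⟶ G,
      (∀ x : 𝟙_ (Over (Spec (CommRingCat.of k))) ⟶ (Over.mk (Spec.map (CommRingCat.ofHom (algebraMap k (DualNumber k))))),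
        x ≫ g = η[G]) → g ≫ f = toUnit _ ≫ η[G'] → g = toUnit _ ≫ η[G]) :
    Mono f := by
  haveI := GrpSchLib.AntiAffine.isSeparated_grp G'
  obtain ⟨N, iN, i, hi, hic, -, hk⟩ := GrpSchLib.exists_kernel f
  letI := iN
  haveI := hi
  haveI := hic
  haveI : LocallyOfFiniteType N.hom := by rw [← Over.w i]; infer_instance
  haveI : Mono i := (Over.forget _).mono_of_mono_map (inferInstanceAs (Mono i.left))
  have hif : i ≫ f = 1 := hk.w
  -- a single point
  let e₀ : N.left := η[N].left (IsLocalRing.closedPoint k)
  have hsub : ∀ x : N.left, x = e₀ := by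
    intro x
    let pk : k →+* N.left.residueField x := (Spec.preimage (N.left.fromSpecResidueField x ≫ N.hom)).hom
    letI : Algebra k (AlgebraicClosure (N.left.residueField x)) :=
      ((algebraMap (N.left.residueField x) (AlgebraicClosure (N.left.residueField x))).comp pk).toAlgebra
    let K := AlgebraicClosure (N.left.residueField x)
    let P : Over (Spec (CommRingCat.of k)) := Over.mk (Spec.map (CommRingCat.ofHom (algebraMap k K)))
    let g : P ⟶ N := Over.homMk (Spec.map (CommRingCat.ofHom (algebraMap (N.left.residueField x) K)) ≫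
        N.left.fromSpecResidueField x) (by
      show (_ ≫ _) ≫ N.hom = Spec.map (CommRingCat.ofHom ((algebraMap (N.left.residueField x) K).comp pk))
      rw [Category.assoc, CommRingCat.ofHom_comp, Spec.map_comp]
      congr 1
      exact (Spec.map_preimage _).symm)
    have hg : g ≫ i = 1 := hgeom K (show (g ≫ i) ≫ f = 1 ≫ f by
      rw [Category.assoc, hif, MonObj.comp_one, MonObj.one_comp])
    have hg1 : g = toUnit P ≫ η[N] := by
      rw [← cancel_mono i, hg, Category.assoc, IsMonHom.one_hom, ← Hom.one_def]
    have h1 : g.left (IsLocalRing.closedPoint K) = x := by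
      show (_ ≫ N.left.fromSpecResidueField x) _ = x
      rw [Scheme.Hom.comp_apply]
      exact N.left.fromSpecResidueField_apply x _
    rw [← h1, hg1, Over.comp_left, Scheme.Hom.comp_apply]
    exact congrArg η[N].left (@Subsingleton.elim (Spec (CommRingCat.of k)) inferInstance _ _)
  haveI : Subsingleton N.left := ⟨fun a b => (hsub a).trans (hsub b).symm⟩
  haveI : IsAffine N.left := by
    obtain ⟨U, hU, hx, -⟩ := exists_isAffineOpen_mem_and_subset (show e₀ ∈ (⊤ : N.left.Opens) from trivial)
    have : U = ⊤ := TopologicalSpace.Opens.ext (Set.eq_univ_of_forall fun y => (hsub y) ▸ hx)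
    subst this
    haveI : IsAffine ((⊤ : N.left.Opens) : Scheme.{u}) := hU
    exact IsAffine.of_isIso N.left.topIso.inv
  -- the ring
  let A := Γ(N.left, ⊤)
  letI : Algebra k A := (Spec.preimage (N.left.isoSpec.inv ≫ N.hom)).hom.toAlgebra
  have hA : Spec.map (CommRingCat.ofHom (algebraMap k A)) = N.left.isoSpec.inv ≫ N.hom := Spec.map_preimage _
  haveI : Algebra.FiniteType k A := by
    have : LocallyOfFiniteType (Spec.map (CommRingCat.ofHom (algebraMap k A))) := by rw [hA]; infer_instance
    exact (HasRingHomProperty.Spec_iff (P := @LocallyOfFiniteType)).mp this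
  haveI : IsNoetherianRing A := Algebra.FiniteType.isNoetherianRing k A
  haveI : Subsingleton (PrimeSpectrum A) :=
    show Subsingleton ↥(Spec (CommRingCat.of A)) from N.left.isoSpec.inv.homeomorph.subsingleton
  let ε₀ := Spec.preimage (η[N].left ≫ N.left.isoSpec.hom)
  let ε : A →ₐ[k] k :=
    { ε₀.hom with
      commutes' := fun r => by
        have h : CommRingCat.ofHom (algebraMap k A) ≫ ε₀ = 𝟙 _ := by
          apply Spec.map_injective
          rw [Spec.map_comp, Spec.map_id, hA, Spec.map_preimage, Category.assoc, Iso.hom_inv_id_assoc, Over.w η[N]]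
          rfl
        exact congrArg (fun φ => φ.hom r) h }
  have hnil : ∀ a, ε a = 0 → IsNilpotent a := fun a ha => nilpotent_iff_mem_prime.mpr fun P hP => by
    have : P = RingHom.ker ε := congrArg PrimeSpectrum.asIdeal (Subsingleton.elim (⟨P, hP⟩ : PrimeSpectrum A)
      ⟨RingHom.ker ε, RingHom.ker_isPrime _⟩)
    rw [this]
    exact ha
  have huniq : ∀ p : 𝟙_ (Over (Spec (CommRingCat.of k))) ⟶ N, p = η[N] := by
    intro p
    refine Over.OverMorphism.ext ?_
    rw [← cancel_mono N.left.isoSpec.hom]
    refine (Spec.map_preimage _).symm.trans (Eq.trans ?_ (Spec.map_preimage _))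
    congr 1
    ext a
    have ha : (Spec.preimage (η[N].left ≫ N.left.isoSpec.hom)).hom a = ε a := rfl
    rw [ha]
    let q : A →+* k := (Spec.preimage (p.left ≫ N.left.isoSpec.hom)).hom
    have hq : ∀ r, q (algebraMap k A r) = r := fun r => by
      have h : CommRingCat.ofHom (algebraMap k A) ≫ Spec.preimage (p.left ≫ N.left.isoSpec.hom) = 𝟙 _ := by
        apply Spec.map_injective
        rw [Spec.map_comp, Spec.map_id, hA, Spec.map_preimage, Category.assoc, Iso.hom_inv_id_assoc, Over.w p]
        rfl
      exact congrArg (fun φ => φ.hom r) h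
    show q a = ε a
    have h2 := ((hnil (a - algebraMap k A (ε a)) (by simp)).map q).eq_zero
    rwa [map_sub, hq, sub_eq_zero] at h2
  have hbot : RingHom.ker ε = ⊥ := ker_eq_bot_of_no_derivation ε hnil fun ψ a => by
    let D : Over (Spec (CommRingCat.of k)) := Over.mk (Spec.map (CommRingCat.ofHom (algebraMap k (DualNumber k))))
    let g : D ⟶ N := Over.homMk (Spec.map (CommRingCat.ofHom ψ.toRingHom) ≫ N.left.isoSpec.inv) (by
      show (_ ≫ _) ≫ N.hom = Spec.map _
      rw [Category.assoc, ← hA, ← Spec.map_comp, ← CommRingCat.ofHom_comp]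
      congr 2
      exact ψ.comp_algebraMap)
    have hg : g ≫ i = toUnit D ≫ η[G] := htan (g ≫ i)
      (fun x => by rw [← Category.assoc, huniq (x ≫ g), IsMonHom.one_hom])
      (by rw [Category.assoc, hif, MonObj.comp_one]; rfl)
    have hg1 : g = toUnit D ≫ η[N] := by
      rw [← cancel_mono i, hg, Category.assoc, IsMonHom.one_hom]
    have h2 : CommRingCat.ofHom ψ.toRingHom = CommRingCat.ofHom ((algebraMap k (DualNumber k)).comp ε.toRingHom) := by
      apply Spec.map_injective
      have h3 := congrArg (fun m : D ⟶ N => m.left ≫ N.left.isoSpec.hom) hg1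
      simp only [g, Over.homMk_left, Over.comp_left, Category.assoc, Iso.inv_hom_id] at h3
      rw [Category.comp_id] at h3
      rw [h3, CommRingCat.ofHom_comp, Spec.map_comp]
      congr 1
      exact (Spec.map_preimage _).symm
    have h4 := congrArg (fun φ => (φ.hom a).snd) h2
    simpa [TrivSqZeroExt.algebraMap_eq_inl] using h4
  -- so the kernel is trivial
  haveI : Nontrivial A := ε.toRingHom.domain_nontrivial
  haveI : IsIso N.hom := by
    haveI : IsIso (CommRingCat.ofHom (algebraMap k A)) :=
      (ConcreteCategory.isIso_iff_bijective _).mpr ⟨(algebraMap k A).injective, fun a =>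
        ⟨ε a, (sub_eq_zero.mp ((Submodule.mem_bot A).mp (hbot ▸ (show a - algebraMap k A (ε a) ∈ RingHom.ker ε by
          simp)))).symm⟩⟩
    have : N.hom = N.left.isoSpec.hom ≫ Spec.map (CommRingCat.ofHom (algebraMap k A)) := by
      rw [hA, Iso.hom_inv_id_assoc]
    rw [this]
    infer_instance
  refine ⟨fun {X} a b hab => mul_inv_eq_one.mp ?_⟩
  have hz : (a * b⁻¹) ≫ f = 1 := by rw [MonObj.mul_comp, GrpObj.inv_comp, hab, mul_inv_cancel]
  obtain ⟨l, hl⟩ : ∃ l : X ⟶ N, l ≫ i = a * b⁻¹ := ⟨hk.lift _ (toUnit X) (hz.trans Hom.one_def), hk.lift_fst _ _ _⟩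
  have hl1 : l = toUnit X ≫ η[N] := Over.OverMorphism.ext (by
    rw [← cancel_mono N.hom, Over.w l, Over.w (toUnit X ≫ η[N])])
  rw [← hl, hl1, Category.assoc, IsMonHom.one_hom, ← Hom.one_def]

end Groth.Agent.Deform.SmallGrp
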