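import Groth.Agent.Deform.Luna.MaxBC
import Groth.Agent.Deform.Luna.MaxTorusFactor
import Groth.Agent.GrpSchLib.AntiAffineHom
import Groth.Agent.Deform.Extension
import Groth.Prelude.Def_RedSub

/-!
# Subgroups of type (R) and base change
-/

set_option autoImplicit false
set_option linter.style.haveILetI false
set_option backward.isDefEq.respectTransparency false

universe u

open CategoryTheory CategoryTheory.Limits MonoidalCategory CartesianMonoidalCategory AlgebraicGeometry

open scoped MonObj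

attribute [local instance] CategoryTheory.Hom.monoid CategoryTheory.Hom.group

namespace Groth.Agent.Deform.SmallGrp

open Deform (MaxAt ext)
open S16791 (pcH pcI pc_hom_inv pc_inv_hom pc_nat isMonHom_pc)

/-- A maximal torus followed by an isomorphism of groups is a maximal torus. -/
theorem isMaximalTorus_comp_iso {S : Scheme.{u}} {T G G' : Over S} [GrpObj T] [GrpObj G] [GrpObj G'] {i : T ⟶ G}
    (h : Red.IsMaximalTorus i) (e : G ⟶ G') [IsIso e] [IsMonHom e] : Red.IsMaximalTorus (i ≫ e) := by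
  obtain ⟨hi, him, hT, hmax⟩ := h
  haveI := hi; haveI := him
  haveI : IsMonHom (inv e) := Deform.isMonHom_of_comp (inv e) e (i := 𝟙 G') (IsIso.inv_hom_id e)
  refine ⟨inferInstance, inferInstance, hT, fun s T' _ j _ _ f hT' hf => ?_⟩
  haveI : IsMonHom ((Over.pullback (Red.geomPt s)).map (inv e)) := inferInstance
  exact hmax s T' (j ≫ (Over.pullback (Red.geomPt s)).map (inv e)) f hT' (by
    rw [← Category.assoc, hf, ← Functor.map_comp, Category.assoc, IsIso.hom_inv_id, Category.comp_id])

variable {S S' : Scheme.{u}}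

set_option maxHeartbeats 1000000 in
/-- A geometric fibre of a type (R) subgroup contains a maximal torus after extension of the field. -/
theorem exists_maxTorus_comp {G H : Over S} [GrpObj G] [GrpObj H] [Smooth G.hom] [QuasiCompact G.hom] (i : H ⟶ G)
    [IsMonHom i] {K L : Type u} [Field K] [IsAlgClosed K] [Field L] [IsAlgClosed L] [Algebra K L]
    (b : Spec (CommRingCat.of K) ⟶ S)
    (h : ∃ (T : Over (Spec (CommRingCat.of K))) (_ : GrpObj T) (t : T ⟶ Red.bc b H),
      IsMonHom t ∧ Red.IsMaximalTorus (t ≫ (Over.pullback b).map i))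
    (g : Spec (CommRingCat.of L) ⟶ S) (hg : g = ext K L ≫ b) :
    ∃ (T : Over (Spec (CommRingCat.of L))) (_ : GrpObj T) (t : T ⟶ Red.bc g H),
      IsMonHom t ∧ Red.IsMaximalTorus (t ≫ (Over.pullback g).map i) := by
  subst hg
  obtain ⟨T, iT, t, ht, hmax⟩ := h
  letI := iT
  haveI := ht
  let a := ext K L
  haveI := isMonHom_pc a b H
  haveI := isMonHom_pc a b G
  haveI : IsIso (pcI a b G) := ⟨pcH a b G, pc_inv_hom a b G, pc_hom_inv a b G⟩
  haveI : IsIso (pcH a b H) := ⟨pcI a b H, pc_hom_inv a b H, pc_inv_hom a b H⟩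
  haveI : IsIso (pcH a b G) := ⟨pcI a b G, pc_hom_inv a b G, pc_inv_hom a b G⟩
  haveI : IsMonHom (pcI a b H) := Deform.isMonHom_of_comp _ (pcH a b H) (i := 𝟙 _) (pc_inv_hom a b H)
  haveI : IsMonHom (pcI a b G) := Deform.isMonHom_of_comp _ (pcH a b G) (i := 𝟙 _) (pc_inv_hom a b G)
  refine ⟨Red.bc a T, inferInstance, (Over.pullback a).map t ≫ pcI a b H, inferInstance, ?_⟩
  haveI : Smooth (Red.bc b G).hom := inferInstanceAs (Smooth (pullback.snd G.hom b))
  haveI : QuasiCompact (Red.bc b G).hom := inferInstanceAs (QuasiCompact (pullback.snd G.hom b))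
  have h1 := isMaximalTorus_comp_iso (Luna.isMaximalTorus_bc a hmax) (pcI a b G)
  have h2 : pcI a b H ≫ (Over.pullback (a ≫ b)).map i =
      (Over.pullback a).map ((Over.pullback b).map i) ≫ pcI a b G := by
    haveI : IsIso (pcH a b H) := ⟨pcI a b H, pc_hom_inv a b H, pc_inv_hom a b H⟩
    rw [← cancel_epi (pcH a b H), ← Category.assoc, pc_hom_inv, Category.id_comp, ← Category.assoc, pc_nat,
      Category.assoc, pc_hom_inv, Category.comp_id]
  rw [Category.assoc, h2, ← Category.assoc, ← Functor.map_comp]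
  exact h1

/-- Connectedness of the fibres of a smooth group passes to base changes. -/
theorem hasConnectedFibres_bc (f : S' ⟶ S) {H : Over S} [GrpObj H] [LocallyOfFiniteType H.hom]
    (h : RedSub.HasConnectedFibres H) : RedSub.HasConnectedFibres (Red.bc f H) := by
  intro s'
  obtain ⟨alg, he⟩ := S16791.exists_geom f s'
  letI := alg
  let K := AlgebraicClosure (S.residueField (f s'))
  let L := AlgebraicClosure (S'.residueField s')
  let b := Red.geomPt (f s')
  haveI : ConnectedSpace ↥(Red.bc b H).left := Luna.connectedSpace_geom h (f s')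
  haveI : LocallyOfFiniteType (Red.bc b H).hom := inferInstanceAs (LocallyOfFiniteType (pullback.snd H.hom b))
  haveI hL : ConnectedSpace ↥(pullback (pullback.snd H.hom b) (ext K L)) :=
    Agent.GrpSchLib.AntiAffine.connectedSpace_bc (k := K) (Red.bc b H) (algebraMap K L)
  haveI h1 : ConnectedSpace ↥(pullback H.hom (ext K L ≫ b)) :=
    (pullbackLeftPullbackSndIso H.hom b (ext K L)).hom.homeomorph.surjective.connectedSpace
      (pullbackLeftPullbackSndIso H.hom b (ext K L)).hom.continuous
  haveI h2 : ConnectedSpace ↥(pullback H.hom (Red.geomPt s' ≫ f)) := by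
    have key : ∀ g, g = ext K L ≫ b → ConnectedSpace ↥(pullback H.hom g) := by rintro _ rfl; exact h1
    exact key _ he
  haveI h3 : ConnectedSpace ↥(pullback (pullback.snd H.hom f) (Red.geomPt s')) :=
    (pullbackLeftPullbackSndIso H.hom f (Red.geomPt s')).inv.homeomorph.surjective.connectedSpace
      (pullbackLeftPullbackSndIso H.hom f (Red.geomPt s')).inv.continuous
  have hr : Set.range (pullback.fst (pullback.snd H.hom f) (Red.geomPt s')) = (Red.bc f H).hom.base ⁻¹' {s'} := by
    rw [Scheme.Pullback.range_fst]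
    refine congrArg (fun A => (pullback.snd H.hom f) ⁻¹' A) ?_
    refine Set.eq_singleton_iff_nonempty_unique_mem.mpr ⟨Set.range_nonempty _, ?_⟩
    rintro _ ⟨x, rfl⟩
    show (_ ≫ S'.fromSpecResidueField s') x = s'
    rw [Scheme.Hom.comp_apply]
    exact S'.fromSpecResidueField_apply s' _
  rw [← hr]
  exact isConnected_range (pullback.fst (pullback.snd H.hom f) (Red.geomPt s')).continuous

/-- **Type (R) is stable under base change.** -/
theorem isTypeR_bc (f : S' ⟶ S) {G H : Over S} [GrpObj G] [GrpObj H] [Smooth G.hom] [QuasiCompact G.hom] {i : H ⟶ G}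
    (h : RedSub.IsTypeR i) : RedSub.IsTypeR ((Over.pullback f).map i) := by
  obtain ⟨⟨him, hii⟩, hs, hq, hc, ht⟩ := h
  haveI := him; haveI := hs
  refine ⟨⟨inferInstance, MorphismProperty.overPullbackMap (P := @IsImmersion) _ _ hii⟩,
    MorphismProperty.pullback_snd (P := @Smooth) H.hom f hs,
    MorphismProperty.pullback_snd (P := @QuasiCompact) H.hom f hq, hasConnectedFibres_bc f hc, fun s' => ?_⟩
  obtain ⟨alg, he⟩ := S16791.exists_geom f s'
  letI := alg
  obtain ⟨T, iT, t, htm, hmax⟩ := exists_maxTorus_comp i (Red.geomPt (f s')) (ht (f s')) (Red.geomPt s' ≫ f) he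
  letI := iT
  haveI := htm
  let a := Red.geomPt s'
  haveI := isMonHom_pc a f H
  haveI := isMonHom_pc a f G
  haveI : IsIso (pcH a f G) := ⟨pcI a f G, pc_hom_inv a f G, pc_inv_hom a f G⟩
  refine ⟨T, iT, t ≫ pcH a f H, inferInstance, ?_⟩
  rw [Category.assoc, pc_nat, ← Category.assoc]
  exact isMaximalTorus_comp_iso hmax (pcH a f G)

end Groth.Agent.Deform.SmallGrp

namespace Groth.Agent.Deform.SmallGrp

open S16791 (pcH pcI pc_hom_inv pc_inv_hom pc_nat isMonHom_pc)

variable {S : Scheme.{u}}

theorem isTypeR_comp_iso {G G' H : Over S} [GrpObj G] [GrpObj G'] [GrpObj H] {i : H ⟶ G} (h : RedSub.IsTypeR i)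
    (e : G ⟶ G') [IsIso e] [IsMonHom e] : RedSub.IsTypeR (i ≫ e) := by
  obtain ⟨⟨him, hii⟩, hs, hq, hc, ht⟩ := h
  haveI := him; haveI := hii
  haveI : IsIso e.left := (Over.forget _).map_isIso e
  refine ⟨⟨inferInstance, inferInstanceAs (IsImmersion (i.left ≫ e.left))⟩, hs, hq, hc, fun s => ?_⟩
  obtain ⟨T, iT, t, htm, hmax⟩ := ht s
  letI := iT
  refine ⟨T, iT, t, htm, ?_⟩
  rw [Functor.map_comp, ← Category.assoc]
  exact isMaximalTorus_comp_iso hmax ((Over.pullback (Red.geomPt s)).map e)

theorem pcI_fst {U U' : Scheme.{u}} (t : U' ⟶ U) (g : U ⟶ S) (X : Over S) :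
    (pcI t g X).left ≫ pullback.fst X.hom (t ≫ g) =
      pullback.fst (Red.bc g X).hom t ≫ pullback.fst X.hom g := by
  simp [pcI, Over.pullbackComp, Red.bc]
  exact Category.id_comp _

/-- The pullback of a family of type (R) subgroups, with its points. -/
theorem exists_pullback_family {G : Over S} [GrpObj G] [Smooth G.hom] [QuasiCompact G.hom] (M : Over S)
    {H : Over M.left} [GrpObj H] (h : H ⟶ Red.bc M.hom G) (hh : RedSub.IsTypeR h) {S' : Scheme.{u}}
    (g : S' ⟶ M.left) (f : S' ⟶ S) (hf : g ≫ M.hom = f) :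
    ∃ (H' : Over S') (_ : GrpObj H') (h' : H' ⟶ Red.bc f G),
      RedSub.IsTypeR h' ∧ RedSub.SamePoints G f h' M h g := by
  subst hf
  haveI : Smooth (Red.bc M.hom G).hom := inferInstanceAs (Smooth (pullback.snd G.hom M.hom))
  haveI : QuasiCompact (Red.bc M.hom G).hom := inferInstanceAs (QuasiCompact (pullback.snd G.hom M.hom))
  haveI := isMonHom_pc g M.hom G
  haveI : IsIso (pcH g M.hom G) := ⟨pcI g M.hom G, pc_hom_inv g M.hom G, pc_inv_hom g M.hom G⟩
  haveI : IsIso (pcI g M.hom G) := ⟨pcH g M.hom G, pc_inv_hom g M.hom G, pc_hom_inv g M.hom G⟩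
  haveI : IsMonHom (pcI g M.hom G) :=
    Deform.isMonHom_of_comp _ (pcH g M.hom G) (i := 𝟙 _) (pc_inv_hom g M.hom G)
  refine ⟨Red.bc g H, inferInstance, (Over.pullback g).map h ≫ pcI g M.hom G,
    isTypeR_comp_iso (isTypeR_bc g hh) _, fun X y v => ?_⟩
  have he : ((Over.pullback g).map h ≫ pcI g M.hom G).left ≫ pullback.fst G.hom (g ≫ M.hom) =
      pullback.fst H.hom g ≫ h.left ≫ pullback.fst G.hom M.hom := by
    rw [Over.comp_left, Category.assoc, pcI_fst, ← Category.assoc _ (pullback.fst (Red.bc M.hom G).hom g)]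
    rw [show ((Over.pullback g).map h).left ≫ pullback.fst (Red.bc M.hom G).hom g = pullback.fst H.hom g ≫ h.left from
      ActBC.pullback_map_left_fst g h, Category.assoc]
  constructor
  · rintro ⟨p, hp, hpv⟩
    refine ⟨p ≫ pullback.fst H.hom g, ?_, ?_⟩
    · rw [← hp, Category.assoc, pullback.condition, Category.assoc]
      rfl
    · rw [← hpv, he, Category.assoc]
  · rintro ⟨p, hp, hpv⟩
    refine ⟨pullback.lift p y hp, pullback.lift_snd _ _ _, ?_⟩
    rw [he, pullback.lift_fst_assoc, hpv]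

end Groth.Agent.Deform.SmallGrp
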